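import Groth.Agent.Lib.GrLC.RegSeq
import Mathlib.LinearAlgebra.Dimension.Finite
import Mathlib.LinearAlgebra.FiniteDimensional.Lemmas
import Mathlib.Data.Int.Interval

/-!
# Length of a finite length cyclic graded module over a polynomial ring bounds its top degree
-/

universe u

open DirectSum MvPolynomial

namespace RegLen27

variable {k : Type u} [Field k] {n : ℕ} {N : Type u} [AddCommGroup N] [Module k N]
  [Module (MvPolynomial (Fin n) k) N] [IsScalarTower k (MvPolynomial (Fin n) k) N]

/-- One step of a composition series adds at most one to the `k`-dimension. -/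
theorem covBy_step (hnil : ∀ (i : Fin n) (v : N), ∃ e : ℕ, (X i : MvPolynomial (Fin n) k) ^ e • v = 0)
    {A B : Submodule (MvPolynomial (Fin n) k) N} (h : A ⋖ B) :
    ∃ b : N, B.restrictScalars k ≤ A.restrictScalars k ⊔ Submodule.span k {b} := by
  obtain ⟨b, hbB, hbA⟩ := SetLike.exists_of_lt h.lt
  refine ⟨b, ?_⟩
  have hX : ∀ i, (X i : MvPolynomial (Fin n) k) • b ∈ A := by
    intro i
    by_contra hc
    have hle : A ⊔ Submodule.span _ {(X i : MvPolynomial (Fin n) k) • b} ≤ B :=
      sup_le h.le ((Submodule.span_singleton_le_iff_mem _ _).2 (B.smul_mem _ hbB))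
    rcases h.eq_or_eq le_sup_left hle with h1 | h1
    · exact hc (h1 ▸ Submodule.mem_sup_right (Submodule.mem_span_singleton_self _))
    · rw [← h1, Submodule.mem_sup] at hbB
      obtain ⟨a, ha, c, hc', hac⟩ := hbB
      obtain ⟨p, rfl⟩ := Submodule.mem_span_singleton.1 hc'
      have key : ∀ m : ℕ, b - (p * X i) ^ m • b ∈ A := by
        intro m
        induction m with
        | zero => simp
        | succ m ih =>
          have ha' : b - (p * X i) • b = a := by rw [mul_smul, sub_eq_iff_eq_add]; exact hac.symm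
          have : b - (p * X i) ^ (m + 1) • b = a + (p * X i) • (b - (p * X i) ^ m • b) := by
            rw [smul_sub, ← mul_smul (p * X i) ((p * X i) ^ m) b, ← pow_succ', ← ha']
            abel
          rw [this]
          exact A.add_mem ha (A.smul_mem _ ih)
      obtain ⟨e, he⟩ := hnil i b
      have h2 := key e
      rw [mul_pow, mul_smul, he, smul_zero, sub_zero] at h2
      exact hbA h2
  let C : Submodule k N := A.restrictScalars k ⊔ Submodule.span k {b}
  have hC : ∀ (p : MvPolynomial (Fin n) k), p • b ∈ C := by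
    intro p
    induction p using MvPolynomial.induction_on with
    | C c =>
      rw [← algebraMap_eq, algebraMap_smul]
      exact Submodule.mem_sup_right (Submodule.smul_mem _ c (Submodule.mem_span_singleton_self b))
    | add p q hp hq => rw [add_smul]; exact add_mem hp hq
    | mul_X p i _ =>
      rw [mul_smul]
      exact Submodule.mem_sup_left (show p • ((X i : MvPolynomial (Fin n) k) • b) ∈ A from A.smul_mem p (hX i))
  have hB : B = A ⊔ Submodule.span _ {b} := by
    refine ((h.eq_or_eq le_sup_left (sup_le h.le ((Submodule.span_singleton_le_iff_mem _ _).2 hbB))).resolve_left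
      fun h1 => hbA (h1 ▸ Submodule.mem_sup_right (Submodule.mem_span_singleton_self b))).symm
  intro v hv
  rw [Submodule.restrictScalars_mem, hB, Submodule.mem_sup] at hv
  obtain ⟨a, ha, c, hc, rfl⟩ := hv
  obtain ⟨p, rfl⟩ := Submodule.mem_span_singleton.1 hc
  exact add_mem (Submodule.mem_sup_left (show a ∈ A.restrictScalars k from ha)) (hC p)

/-- The `k`-dimension is at most the length. -/
theorem finite_and_finrank_le (hnil : ∀ (i : Fin n) (v : N), ∃ e : ℕ, (X i : MvPolynomial (Fin n) k) ^ e • v = 0)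
    (ℓ : ℕ) (hℓ : Module.length (MvPolynomial (Fin n) k) N = (ℓ : ℕ∞)) :
    Module.Finite k N ∧ Module.finrank k N ≤ ℓ := by
  have hfl : IsFiniteLength (MvPolynomial (Fin n) k) N :=
    Module.length_ne_top_iff.1 (by rw [hℓ]; exact ENat.natCast_ne_top ℓ)
  obtain ⟨s, hs₁, hs₂⟩ := isFiniteLength_iff_exists_compositionSeries.1 hfl
  have hlen : s.length = ℓ := by
    have := Module.length_compositionSeries s hs₁ hs₂
    rw [hℓ] at this
    exact_mod_cast this
  have key : ∀ i : Fin (s.length + 1), Module.Finite k ↥((s i).restrictScalars k) ∧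
      Module.finrank k ↥((s i).restrictScalars k) ≤ (i : ℕ) := by
    intro i
    induction i using Fin.induction with
    | zero =>
      have h0 : (s 0).restrictScalars k = ⊥ := by
        rw [show s 0 = ⊥ from hs₁, Submodule.restrictScalars_bot]
      rw [h0]
      exact ⟨inferInstance, by simp⟩
    | succ i ih =>
      obtain ⟨b, hb⟩ := covBy_step hnil (s.step i)
      obtain ⟨hf, hd⟩ := ih
      haveI := hf
      haveI : Module.Finite k ↥((s i.succ).restrictScalars k) :=
        Module.Finite.of_injective (Submodule.inclusion hb) (Submodule.inclusion_injective hb)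
      refine ⟨inferInstance, (Submodule.finrank_mono hb).trans
        ((Submodule.finrank_add_le_finrank_add_finrank _ _).trans ?_)⟩
      have h1 : Module.finrank k ↥(Submodule.span k ({b} : Set N)) ≤ 1 := by
        have := finrank_span_le_card (R := k) ({b} : Set N)
        simpa using this
      simp only [Fin.coe_castSucc] at hd
      simp only [Fin.val_succ]
      omega
  obtain ⟨hf, hd⟩ := key (Fin.last _)
  have ht : (s (Fin.last _)).restrictScalars k = ⊤ := by
    rw [show s (Fin.last _) = ⊤ from hs₂, Submodule.restrictScalars_top]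
  rw [ht] at hf hd
  rw [finrank_top, Fin.val_last, hlen] at hd
  exact ⟨Module.Finite.equiv Submodule.topEquiv, hd⟩

section Cyclic

variable (𝒩 : ℤ → Submodule k N) [Decomposition 𝒩] [SetLike.GradedSMul (GrSyz.stdGr k (Fin n)) 𝒩]
  (f : MvPolynomial (Fin n) k →ₗ[MvPolynomial (Fin n) k] N) (hf : Function.Surjective f)
  (hfg : GrLC.IsGrHom (GrSyz.stdGr k (Fin n)) 𝒩 f)

include hf hfg in
theorem exists_of_mem {g : ℤ} {v : N} (hv : v ∈ 𝒩 g) : ∃ p ∈ GrSyz.stdGr k (Fin n) g, f p = v := by
  obtain ⟨p, rfl⟩ := hf v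
  refine ⟨GrothLib.GrLC.cmp (GrSyz.stdGr k (Fin n)) g p, GrothLib.GrLC.cmp_mem _ g p, ?_⟩
  rw [GrothLib.GrLC.map_cmp hfg, GrothLib.GrLC.cmp_of_mem 𝒩 hv]

include hf hfg in
theorem piece_neg {g : ℤ} (hg : g < 0) : 𝒩 g = ⊥ :=
  (Submodule.eq_bot_iff _).2 fun v hv => by
    obtain ⟨p, hp, rfl⟩ := exists_of_mem 𝒩 f hf hfg hv
    rw [GrothLib.GrSyz.eq_zero_of_mem_neg hg hp, map_zero]

include hf hfg in
/-- If a piece of nonnegative degree vanishes then so does the next one. -/
theorem piece_succ {j : ℤ} (hj : 0 ≤ j) (h : 𝒩 j = ⊥) : 𝒩 (j + 1) = ⊥ := by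
  refine (Submodule.eq_bot_iff _).2 fun v hv => ?_
  obtain ⟨p, hp, rfl⟩ := exists_of_mem 𝒩 f hf hfg hv
  rw [p.as_sum, map_sum]
  refine Finset.sum_eq_zero fun d hd => ?_
  have hw : Finsupp.weight (fun _ : Fin n => (1 : ℤ)) d = j + 1 :=
    (GrSyz.mem_stdGr_iff k (Fin n) _ _).1 hp (mem_support_iff.1 hd)
  have hne : d ≠ 0 := by
    rintro rfl
    rw [map_zero] at hw
    omega
  obtain ⟨i, hi⟩ := Finsupp.ne_iff.1 hne
  have hd' : d = Finsupp.single i 1 + (d - Finsupp.single i 1) :=
    (add_tsub_cancel_of_le (Finsupp.single_le_iff.2 (Nat.one_le_iff_ne_zero.2 (by simpa using hi)))).symm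
  have hmono : monomial d (coeff d p) =
      (X i : MvPolynomial (Fin n) k) * monomial (d - Finsupp.single i 1) (coeff d p) := by
    rw [X, monomial_mul, one_mul, ← hd']
  have hw' : Finsupp.weight (fun _ : Fin n => (1 : ℤ)) (d - Finsupp.single i 1) = j := by
    have h1 := hw
    rw [hd', map_add, Finsupp.weight_single, one_smul] at h1
    omega
  have hmem : monomial (d - Finsupp.single i 1) (coeff d p) ∈ GrSyz.stdGr k (Fin n) j :=
    (GrSyz.mem_stdGr_iff k (Fin n) _ _).2 (isWeightedHomogeneous_monomial _ _ _ hw')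
  have h0 : f (monomial (d - Finsupp.single i 1) (coeff d p)) = 0 := by
    have := hfg j _ hmem
    rwa [h, Submodule.mem_bot] at this
  rw [hmono, ← smul_eq_mul, map_smul, h0, smul_zero]

include hf hfg in
theorem piece_ne_bot {g : ℤ} (hg : 𝒩 g ≠ ⊥) : ∀ m : ℕ, (m : ℤ) ≤ g → 𝒩 (g - m) ≠ ⊥ := by
  intro m
  induction m with
  | zero => intro _; simpa using hg
  | succ m ih =>
    intro hm h
    refine ih (by push_cast at hm; omega) ?_
    have := piece_succ 𝒩 f hf hfg (j := g - ((m + 1 : ℕ) : ℤ)) (by omega) h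
    rwa [show g - ((m + 1 : ℕ) : ℤ) + 1 = g - m by push_cast; ring] at this

variable [Module.Finite k N]

/-- The dimension of finitely many distinct pieces together is at most the dimension of the module. -/
theorem sum_finrank_le (s : Finset ℤ) : (∑ g ∈ s, Module.finrank k (𝒩 g)) ≤ Module.finrank k N := by
  classical
  have hind : iSupIndep 𝒩 := (Decomposition.isInternal 𝒩).submodule_iSupIndep
  suffices (∑ g ∈ s, Module.finrank k (𝒩 g)) = Module.finrank k ↥(s.sup 𝒩) from
    this ▸ Submodule.finrank_le _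
  induction s using Finset.induction_on with
  | empty => rw [Finset.sum_empty, Finset.sup_empty, finrank_bot]
  | insert a s ha ih =>
    rw [Finset.sum_insert ha, Finset.sup_insert, ih]
    have hd : 𝒩 a ⊓ s.sup 𝒩 = ⊥ := by
      refine disjoint_iff.1 ((hind a).mono_right (Finset.sup_le fun b hb => ?_))
      exact le_iSup₂ (f := fun j (_ : j ≠ a) => 𝒩 j) b (fun h => ha (h ▸ hb))
    have := Submodule.finrank_sup_add_finrank_inf_eq (𝒩 a) (s.sup 𝒩)
    rw [hd, finrank_bot, add_zero] at this
    exact this.symm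

include hf hfg in
/-- Top degree plus the dimension of the linear piece is at most the dimension. -/
theorem deg_add_finrank_one_le {g : ℤ} (hg : 𝒩 g ≠ ⊥) :
    g + Module.finrank k (𝒩 1) ≤ (Module.finrank k N : ℤ) := by
  classical
  have h0 : 0 ≤ g := le_of_not_gt fun h => hg (piece_neg 𝒩 f hf hfg h)
  have hpos : ∀ j ∈ Finset.Icc (0 : ℤ) g, 1 ≤ Module.finrank k (𝒩 j) := by
    intro j hj
    rw [Finset.mem_Icc] at hj
    refine Submodule.one_le_finrank_iff.2 ?_
    have := piece_ne_bot 𝒩 f hf hfg hg (g - j).toNat (by omega)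
    rwa [show g - ((g - j).toNat : ℤ) = j by omega] at this
  have h1 := Finset.sum_le_sum (s := (Finset.Icc (0 : ℤ) g).erase 1) (fun j hj => hpos j (Finset.mem_of_mem_erase hj))
  rw [Finset.sum_const, smul_eq_mul, mul_one] at h1
  have h2 := sum_finrank_le 𝒩 (insert 1 ((Finset.Icc (0 : ℤ) g).erase 1))
  rw [Finset.sum_insert (Finset.notMem_erase _ _)] at h2
  have h3 : g ≤ ((((Finset.Icc (0 : ℤ) g).erase 1).card : ℕ) : ℤ) := by
    have h5 : ((Finset.Icc (0 : ℤ) g).erase 1).card + 1 ≥ (Finset.Icc (0 : ℤ) g).card := by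
      have := Finset.pred_card_le_card_erase (s := Finset.Icc (0 : ℤ) g) (a := (1 : ℤ))
      omega
    rw [Int.card_Icc] at h5
    omega
  omega

end Cyclic

section One

variable {M : Type u} [AddCommGroup M] [Module k M] [Module (MvPolynomial (Fin n) k) M]
  [IsScalarTower k (MvPolynomial (Fin n) k) M]
  (ℳ : ℤ → Submodule k M) [Decomposition ℳ] [SetLike.GradedSMul (GrSyz.stdGr k (Fin n)) ℳ]

omit [Field k] in
theorem weight_one_pos {d : Fin n →₀ ℕ} (hd : d ≠ 0) : 1 ≤ Finsupp.weight (fun _ : Fin n => (1 : ℤ)) d := by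
  obtain ⟨i, hi⟩ := Finsupp.ne_iff.1 hd
  rw [Finsupp.weight_apply, Finsupp.sum_fintype _ _ (by simp)]
  refine le_trans ?_ (Finset.single_le_sum (fun j _ => ?_) (Finset.mem_univ i))
  · simpa [Nat.one_le_iff_ne_zero] using hi
  · simp

/-- An element of the ideal generated by linear forms has no component of degree below one, and its
degree one component is a `k`-combination of the forms. -/
theorem cmp_ofList (ys : List (MvPolynomial (Fin n) k)) (hys : ∀ y ∈ ys, y ∈ GrSyz.stdGr k (Fin n) 1)
    {q : MvPolynomial (Fin n) k} (hq : q ∈ Ideal.ofList ys) :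
    GrothLib.GrLC.cmp (GrSyz.stdGr k (Fin n)) 1 q ∈ Submodule.span k {r | r ∈ ys} ∧
      ∀ g : ℤ, g < 1 → GrothLib.GrLC.cmp (GrSyz.stdGr k (Fin n)) g q = 0 := by
  have hq' : q ∈ Submodule.span (MvPolynomial (Fin n) k) {r | r ∈ ys} := hq
  clear hq
  induction hq' using Submodule.span_induction with
  | mem x hx =>
    exact ⟨by rw [GrothLib.GrLC.cmp_of_mem _ (hys x hx)]; exact Submodule.subset_span hx,
      fun g hg => GrothLib.GrLC.cmp_of_mem_ne _ (hys x hx) (by omega)⟩
  | zero => exact ⟨by rw [map_zero]; exact zero_mem _, fun g _ => map_zero _⟩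
  | add x y _ _ hx hy =>
    exact ⟨by rw [map_add]; exact add_mem hx.1 hy.1, fun g hg => by rw [map_add, hx.2 g hg, hy.2 g hg, add_zero]⟩
  | smul c x _ hx =>
    induction c using MvPolynomial.induction_on' with
    | monomial d a =>
      have hm : monomial d a ∈ GrSyz.stdGr k (Fin n) (Finsupp.weight (fun _ : Fin n => (1 : ℤ)) d) :=
        (GrSyz.mem_stdGr_iff k (Fin n) _ _).2 (isWeightedHomogeneous_monomial _ _ _ rfl)
      have hw : 0 ≤ Finsupp.weight (fun _ : Fin n => (1 : ℤ)) d := by
        rcases eq_or_ne d 0 with rfl | hd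
        · simp
        · exact le_trans zero_le_one (weight_one_pos hd)
      refine ⟨?_, fun g hg => ?_⟩
      · rw [GrothLib.GrLC.cmp_smul_of_mem (GrSyz.stdGr k (Fin n)) hm]
        rcases eq_or_ne d 0 with rfl | hd
        · rw [map_zero, sub_zero, monomial_zero', smul_eq_mul, ← smul_eq_C_mul]
          exact Submodule.smul_mem _ a hx.1
        · rw [hx.2 _ (by have := weight_one_pos hd; omega), smul_zero]
          exact zero_mem _
      · rw [GrothLib.GrLC.cmp_smul_of_mem (GrSyz.stdGr k (Fin n)) hm, hx.2 _ (by omega), smul_zero]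
    | add p q hp hq =>
      rw [add_smul]
      exact ⟨by rw [map_add]; exact add_mem hp.1 hq.1,
        fun g hg => by rw [map_add, hp.2 g hg, hq.2 g hg, add_zero]⟩

/-- The linear piece of the quotient by linear forms has dimension at least `n` minus their number. -/
theorem le_finrank_one (π : MvPolynomial (Fin n) k →ₗ[MvPolynomial (Fin n) k] M) (hπ : Function.Surjective π)
    (hπg : GrLC.IsGrHom (GrSyz.stdGr k (Fin n)) ℳ π)
    (hlin : ∀ x : MvPolynomial (Fin n) k, x ∈ GrSyz.stdGr k (Fin n) 1 → π x = 0 → x = 0)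
    (ys : List (MvPolynomial (Fin n) k)) (hys : ∀ y ∈ ys, y ∈ GrSyz.stdGr k (Fin n) 1)
    (𝒩 : ℤ → Submodule k N) [Decomposition 𝒩] [SetLike.GradedSMul (GrSyz.stdGr k (Fin n)) 𝒩]
    [Module.Finite k N]
    (σ : M →ₗ[MvPolynomial (Fin n) k] N) (hσg : GrLC.IsGrHom ℳ 𝒩 σ)
    (hker : LinearMap.ker σ = Ideal.ofList ys • (⊤ : Submodule (MvPolynomial (Fin n) k) M)) :
    (n : ℤ) - ys.length ≤ Module.finrank k (𝒩 1) := by
  let e : (Fin n → k) →ₗ[k] MvPolynomial (Fin n) k := Fintype.linearCombination k (fun i => (X i : MvPolynomial (Fin n) k))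
  have he : ∀ c, e c = ∑ i, C (c i) * X i := fun c => by
    simp [e, Fintype.linearCombination_apply, smul_eq_C_mul]
  have heX : ∀ c, e c ∈ GrSyz.stdGr k (Fin n) 1 := fun c => by
    simp only [e, Fintype.linearCombination_apply]
    exact Submodule.sum_mem _ fun i _ => Submodule.smul_mem _ _
      ((GrSyz.mem_stdGr_iff k (Fin n) _ _).2 (isWeightedHomogeneous_X _ _ i))
  have hinj : Function.Injective e := by
    intro c c' h
    funext i
    have := congrArg (coeff (Finsupp.single i 1)) h
    simpa [he, coeff_sum, coeff_C_mul, coeff_X', Finsupp.single_left_inj, eq_comm] using this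
  let L : (Fin n → k) →ₗ[k] N := ((σ.comp π).restrictScalars k).comp e
  have hkerL : Submodule.map e (LinearMap.ker L) ≤ Submodule.span k {r | r ∈ ys} := by
    rintro _ ⟨c, hc, rfl⟩
    have hc' : π (e c) ∈ Ideal.ofList ys • (⊤ : Submodule (MvPolynomial (Fin n) k) M) := by
      rw [← hker]; exact hc
    rw [← LinearMap.range_eq_top.2 hπ, ← Submodule.map_top, ← Submodule.map_smul''] at hc'
    obtain ⟨q, hq, hq'⟩ := hc'
    rw [smul_eq_mul, Ideal.mul_top] at hq
    obtain ⟨h1, -⟩ := cmp_ofList ys hys hq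
    have h2 : π (GrothLib.GrLC.cmp (GrSyz.stdGr k (Fin n)) 1 q) = π (e c) := by
      rw [GrothLib.GrLC.map_cmp hπg, hq', GrothLib.GrLC.cmp_of_mem ℳ (hπg _ _ (heX c))]
    have h3 : GrothLib.GrLC.cmp (GrSyz.stdGr k (Fin n)) 1 q = e c :=
      sub_eq_zero.1 (hlin _ (Submodule.sub_mem _ (GrothLib.GrLC.cmp_mem _ 1 q) (heX c))
        (by rw [map_sub, h2, sub_self]))
    rwa [← h3]
  haveI : Module.Finite k ↥(Submodule.span k {r | r ∈ ys}) := Module.Finite.span_of_finite k ys.finite_toSet
  have hd1 : Module.finrank k (LinearMap.ker L) ≤ ys.length := by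
    rw [LinearEquiv.finrank_eq (Submodule.equivMapOfInjective e hinj (LinearMap.ker L))]
    refine (Submodule.finrank_mono hkerL).trans ?_
    classical
    have := finrank_span_finset_le_card (R := k) ys.toFinset
    rw [List.coe_toFinset] at this
    exact this.trans (List.toFinset_card_le _)
  have hd2 : Module.finrank k (LinearMap.range L) ≤ Module.finrank k (𝒩 1) := by
    refine Submodule.finrank_mono ?_
    rintro _ ⟨c, rfl⟩
    exact hσg _ _ (hπg _ _ (heX c))
  have h := LinearMap.finrank_range_add_finrank_ker L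
  rw [Module.finrank_fin_fun] at h
  omega

end One

end RegLen27
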